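import Groth.Agent.CurveNorm.Basic
import Groth.Prelude.Def_Curv2

/-!
Universal property of the normalization of an integral scheme.
-/

set_option autoImplicit false
set_option linter.style.haveILetI false
set_option backward.isDefEq.respectTransparency false
universe u

open CategoryTheory AlgebraicGeometry TopologicalSpace Polynomial

namespace Groth.Agent.NormUniv

variable {X : Scheme.{u}} [IsIntegral X] [QuasiCompact (X.fromSpecStalk (genericPoint X))]
  [QuasiSeparated (X.fromSpecStalk (genericPoint X))]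

theorem germ_ne_zero {U : X.Opens} {s : Γ(X, U)} (hs : s ≠ 0) {y : X} (hy : y ∈ U) :
    X.presheaf.germ U y hy s ≠ 0 := fun h => hs (germ_injective_of_isIntegral X y hy (h.trans (map_zero _).symm))

/-- Sections of the normalization over an affine open are fractions. -/
theorem frac_facts {U : X.Opens} (hU : IsAffineOpen U) [Nonempty U] :
    Function.Injective ((X.fromSpecStalk (genericPoint X)).fromNormalization.app U).hom ∧
    ∀ a : Γ((X.fromSpecStalk (genericPoint X)).normalization, (X.fromSpecStalk (genericPoint X)).fromNormalization ⁻¹ᵁ U),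
      ∃ r s : Γ(X, U), s ≠ 0 ∧ a * (X.fromSpecStalk (genericPoint X)).fromNormalization.app U s =
        (X.fromSpecStalk (genericPoint X)).fromNormalization.app U r := by
  let g := X.fromSpecStalk (genericPoint X)
  let φ : X.functionField →+* X.functionField := RingHom.id _
  have hg : g = Spec.map (CommRingCat.ofHom φ) ≫ X.fromSpecStalk (genericPoint X) := by simp [φ, g]
  obtain ⟨e, he⟩ := Groth.Agent.CurveNorm.exists_equiv φ g hg U
  letI := (g.app U).hom.toAlgebra
  let τ : Γ(g.normalization, g.fromNormalization ⁻¹ᵁ U) →+* X.functionField :=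
    (e.hom.hom.comp (integralClosure Γ(X, U) Γ(Spec (X.presheaf.stalk (genericPoint X)), g ⁻¹ᵁ U)).val.toRingHom).comp
      (g.normalizationObjIso hU).hom.hom
  have hτ : Function.Injective τ :=
    (e.commRingCatIsoToRingEquiv.injective.comp Subtype.val_injective).comp
      (g.normalizationObjIso hU).commRingCatIsoToRingEquiv.injective
  have hτU : ∀ x, τ (g.fromNormalization.app U x) = X.germToFunctionField U x := fun x => by
    have h1 : (g.normalizationObjIso hU).hom (g.fromNormalization.app U x) = algebraMap Γ(X, U) _ x := by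
      have := congrArg (fun m => m ≫ (g.normalizationObjIso hU).hom) (g.fromNormalization_app hU)
      simp only [Category.assoc, Iso.inv_hom_id, Category.comp_id] at this
      exact congrArg (fun m => m.hom x) this
    show e.hom.hom (Subtype.val _) = _
    rw [h1]
    exact congrArg (fun m => m.hom x) he
  haveI := functionField_isFractionRing_of_isAffineOpen X U hU
  refine ⟨fun x y h => X.germToFunctionField_injective U ((hτU x).symm.trans ((congrArg τ h).trans (hτU y))), fun a => ?_⟩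
  obtain ⟨r, s, hs, h⟩ := IsFractionRing.div_surjective Γ(X, U) (τ a)
  refine ⟨r, s, nonZeroDivisors.ne_zero hs, hτ ?_⟩
  rw [map_mul, hτU, hτU, ← h]
  refine div_mul_cancel₀ _ ?_
  exact (map_ne_zero_iff _ (X.germToFunctionField_injective U)).2 (nonZeroDivisors.ne_zero hs)

variable {Z : Scheme.{u}} (g : Z ⟶ X) (hZ : ∀ z : Z, IsDomain (Z.presheaf.stalk z))
  (hdom : ∀ z : Z, ∃ ζ : Z, ζ ⤳ z ∧ g ζ = genericPoint X)

include hZ hdom in
omit [QuasiCompact (X.fromSpecStalk (genericPoint X))] [QuasiSeparated (X.fromSpecStalk (genericPoint X))] in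
theorem germ_pullback_ne_zero {U : X.Opens} {s : Γ(X, U)} (hs : s ≠ 0) (z : Z) (hz : z ∈ g ⁻¹ᵁ U) :
    Z.presheaf.germ (g ⁻¹ᵁ U) z hz (g.app U s) ≠ 0 := by
  obtain ⟨ζ, hζz, hgζ⟩ := hdom z
  intro h
  have hζU : g ζ ∈ U := (hζz.map g.continuous).mem_open U.isOpen hz
  have h1 := congrArg (Z.presheaf.stalkSpecializes hζz) h
  rw [map_zero, TopCat.Presheaf.germ_stalkSpecializes_apply] at h1
  have h2 : (g.stalkMap ζ).hom (X.presheaf.germ U (g ζ) hζU s) = 0 :=
    (Scheme.Hom.germ_stalkMap_apply g U ζ hζU s).trans h1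
  have hF : IsField (X.presheaf.stalk (g ζ)) := by
    rw [hgζ]; exact Field.toIsField X.functionField
  letI := hF.toField
  haveI := hZ ζ
  exact germ_ne_zero hs hζU ((RingHom.injective (g.stalkMap ζ).hom) (h2.trans (map_zero _).symm))

include hZ hdom in
omit [QuasiCompact (X.fromSpecStalk (genericPoint X))] [QuasiSeparated (X.fromSpecStalk (genericPoint X))] in
/-- Pullbacks of nonzero sections are nonzerodivisors on all smaller opens. -/
theorem eq_of_mul_eq {U : X.Opens} {V : Z.Opens} (e : V ≤ g ⁻¹ᵁ U) {s : Γ(X, U)} (hs : s ≠ 0) {y y' : Γ(Z, V)}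
    (h : y * g.appLE U V e s = y' * g.appLE U V e s) : y = y' := by
  refine TopCat.Presheaf.section_ext Z.sheaf V y y' fun z hz => ?_
  haveI := hZ z
  have h1 := congrArg (Z.presheaf.germ V z hz) h
  rw [map_mul, map_mul] at h1
  refine mul_right_cancel₀ (M₀ := Z.presheaf.stalk z) ?_ h1
  have h2 : Z.presheaf.germ V z hz (g.appLE U V e s) = Z.presheaf.germ (g ⁻¹ᵁ U) z (e hz) (g.app U s) :=
    TopCat.Presheaf.germ_res_apply Z.presheaf (homOfLE e) z hz (g.app U s)
  rw [h2]
  exact germ_pullback_ne_zero g hZ hdom hs z (e hz)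

variable (hint : ∀ z : Z, IsIntegrallyClosed (Z.presheaf.stalk z))

include hZ hdom hint in
theorem exists_section {U : X.Opens} (hU : IsAffineOpen U) [Nonempty U]
    (a : Γ((X.fromSpecStalk (genericPoint X)).normalization, (X.fromSpecStalk (genericPoint X)).fromNormalization ⁻¹ᵁ U)) :
    ∃ b : Γ(Z, g ⁻¹ᵁ U), ∀ r s : Γ(X, U),
      a * (X.fromSpecStalk (genericPoint X)).fromNormalization.app U s = (X.fromSpecStalk (genericPoint X)).fromNormalization.app U r →
      b * g.app U s = g.app U r := by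
  let π := (X.fromSpecStalk (genericPoint X)).fromNormalization
  obtain ⟨hinj, hfrac⟩ := frac_facts hU
  obtain ⟨r, s, hs, hrs⟩ := hfrac a
  obtain ⟨p, hp1, hp2⟩ := π.isIntegral_app U hU a
  have hrel : (p.scaleRoots s).eval r = 0 := hinj <| by
    rw [map_zero, ← Polynomial.eval₂_at_apply, ← hrs, mul_comm, Polynomial.scaleRoots_eval₂_mul, hp2, mul_zero]
  have hloc : ∀ z : (g ⁻¹ᵁ U : Z.Opens), ∃ (W : Z.Opens) (hW : W ≤ g ⁻¹ᵁ U) (w : Γ(Z, W)),
      z.1 ∈ W ∧ w * g.appLE U W hW s = g.appLE U W hW r := by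
    rintro ⟨z, hz⟩
    haveI := hZ z
    haveI := hint z
    let O := Z.presheaf.stalk z
    let γ : Γ(X, U) →+* O := (Z.presheaf.germ (g ⁻¹ᵁ U) z hz).hom.comp (g.app U).hom
    have hγs : γ s ≠ 0 := germ_pullback_ne_zero g hZ hdom hs z hz
    let F := FractionRing O
    have hγF : algebraMap O F (γ s) ≠ 0 := (map_ne_zero_iff _ (IsFractionRing.injective O F)).2 hγs
    let q := algebraMap O F (γ r) / algebraMap O F (γ s)
    have hq : _root_.IsIntegral O q := by
      refine ⟨p.map γ, hp1.map γ, ?_⟩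
      have h0 : (p.scaleRoots s).eval₂ ((algebraMap O F).comp γ) ((algebraMap O F).comp γ r) = 0 := by
        rw [Polynomial.eval₂_at_apply, hrel, map_zero]
      have h1 : (algebraMap O F).comp γ r = (algebraMap O F).comp γ s * q := (mul_div_cancel₀ _ hγF).symm
      rw [h1, Polynomial.scaleRoots_eval₂_mul, mul_eq_zero, pow_eq_zero_iff'] at h0
      rw [Polynomial.eval₂_map]
      exact h0.resolve_left fun h => hγF h.1
    obtain ⟨w, hw⟩ := IsIntegrallyClosed.isIntegral_iff.1 hq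
    have hw' : w * γ s = γ r := IsFractionRing.injective O F (by rw [map_mul, hw]; exact div_mul_cancel₀ _ hγF)
    obtain ⟨W, hzW, w₀, rfl⟩ := TopCat.Presheaf.exists_germ_eq Z.presheaf (x := z) w
    have h3 : Z.presheaf.germ (W ⊓ g ⁻¹ᵁ U) z ⟨hzW, hz⟩
          (Z.presheaf.map (homOfLE inf_le_left).op w₀ * g.appLE U (W ⊓ g ⁻¹ᵁ U) inf_le_right s) =
        Z.presheaf.germ (W ⊓ g ⁻¹ᵁ U) z ⟨hzW, hz⟩ (g.appLE U (W ⊓ g ⁻¹ᵁ U) inf_le_right r) := by
      rw [map_mul, TopCat.Presheaf.germ_res_apply]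
      exact (congrArg₂ (· * ·) rfl (TopCat.Presheaf.germ_res_apply Z.presheaf (homOfLE inf_le_right) z ⟨hzW, hz⟩ (g.app U s))).trans
        (hw'.trans (TopCat.Presheaf.germ_res_apply Z.presheaf (homOfLE inf_le_right) z ⟨hzW, hz⟩ (g.app U r)).symm)
    obtain ⟨W', hzW', i₁, _i₂, h4⟩ := Z.presheaf.germ_eq z _ _ _ _ h3
    refine ⟨W', i₁.le.trans inf_le_right, Z.presheaf.map i₁.op (Z.presheaf.map (homOfLE inf_le_left).op w₀), hzW', ?_⟩
    rw [map_mul] at h4
    have hres : ∀ x, Z.presheaf.map i₁.op (g.appLE U (W ⊓ g ⁻¹ᵁ U) inf_le_right x) =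
        g.appLE U W' (i₁.le.trans inf_le_right) x := fun x =>
      congrArg (fun m => m.hom x) (g.appLE_map inf_le_right i₁.op)
    rw [← hres, ← hres]
    rw [Subsingleton.elim _i₂ i₁] at h4
    exact h4
  choose W hW w hzW hw using hloc
  obtain ⟨b, hb, -⟩ := Z.sheaf.existsUnique_gluing' W (g ⁻¹ᵁ U) (fun z => homOfLE (hW z))
    (fun z hz => Opens.mem_iSup.2 ⟨⟨z, hz⟩, hzW _⟩) w (fun i j => by
      refine eq_of_mul_eq g hZ hdom (e := (inf_le_left.trans (hW i) : W i ⊓ W j ≤ g ⁻¹ᵁ U)) hs ?_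
      have h : ∀ (i : (g ⁻¹ᵁ U : Z.Opens)) (V : Z.Opens) (hV : V ≤ W i),
          Z.presheaf.map (homOfLE hV).op (w i) * g.appLE U V (hV.trans (hW i)) s = g.appLE U V (hV.trans (hW i)) r := by
        intro i V hV
        have := congrArg (Z.presheaf.map (homOfLE hV).op) (hw i)
        rw [map_mul] at this
        have hres : ∀ x, Z.presheaf.map (homOfLE hV).op (g.appLE U (W i) (hW i) x) = g.appLE U V (hV.trans (hW i)) x :=
          fun x => congrArg (fun m => m.hom x) (g.appLE_map (hW i) (homOfLE hV).op)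
        rwa [hres, hres] at this
      exact (h i _ inf_le_left).trans (h j _ inf_le_right).symm)
  obtain ⟨b, hb⟩ : ∃ b' : Γ(Z, g ⁻¹ᵁ U), ∀ z, Z.presheaf.map (homOfLE (hW z)).op b' = w z := ⟨b, hb⟩
  have key : b * g.app U s = g.app U r := by
    refine TopCat.Sheaf.eq_of_locally_eq' Z.sheaf W (g ⁻¹ᵁ U) (fun z => homOfLE (hW z))
      (fun z hz => Opens.mem_iSup.2 ⟨⟨z, hz⟩, hzW _⟩) _ _ fun z => ?_
    show Z.presheaf.map _ _ = Z.presheaf.map _ _
    rw [map_mul]
    exact (congrArg (· * _) (hb z)).trans (hw z)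
  refine ⟨b, fun r' s' h' => eq_of_mul_eq g hZ hdom (e := le_rfl) hs ?_⟩
  have hrr : r * s' = r' * s := hinj (by
    rw [map_mul, map_mul, ← hrs, ← h']; ring)
  rw [← Scheme.Hom.app_eq_appLE]
  calc b * g.app U s' * g.app U s = (b * g.app U s) * g.app U s' := by ring
    _ = g.app U r * g.app U s' := by rw [key]
    _ = g.app U r' * g.app U s := by rw [← map_mul, hrr, map_mul]

include hZ hdom hint in
theorem exists_ringHom {U : X.Opens} (hU : IsAffineOpen U) [Nonempty U] :
    ∃ β : Γ((X.fromSpecStalk (genericPoint X)).normalization, (X.fromSpecStalk (genericPoint X)).fromNormalization ⁻¹ᵁ U) ⟶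
        Γ(Z, g ⁻¹ᵁ U), (X.fromSpecStalk (genericPoint X)).fromNormalization.app U ≫ β = g.app U := by
  let π := (X.fromSpecStalk (genericPoint X)).fromNormalization
  obtain ⟨-, hfrac⟩ := frac_facts hU
  choose b hb using exists_section g hZ hdom hint hU
  have key : ∀ a y, (∀ r s, a * π.app U s = π.app U r → y * g.app U s = g.app U r) → y = b a := fun a y h => by
    obtain ⟨r, s, hs, hrs⟩ := hfrac a
    refine eq_of_mul_eq g hZ hdom (e := le_rfl) hs ?_
    rw [← Scheme.Hom.app_eq_appLE, h r s hrs, hb a r s hrs]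
  have hπ : ∀ x, b (π.app U x) = g.app U x := fun x => (key _ _ fun r s h => by
    rw [← map_mul]
    exact congrArg (g.app U) ((frac_facts hU).1 ((map_mul _ _ _).trans h))).symm
  have h2 : ∀ a a', ∃ r r' s, s ≠ 0 ∧ a * π.app U s = π.app U r ∧ a' * π.app U s = π.app U r' := fun a a' => by
    obtain ⟨r, s, hs, h⟩ := hfrac a
    obtain ⟨r', s', hs', h'⟩ := hfrac a'
    refine ⟨r * s', r' * s, s * s', mul_ne_zero hs hs', ?_, ?_⟩
    · rw [map_mul, map_mul, ← mul_assoc, h]
    · rw [map_mul, map_mul, mul_left_comm, h', mul_comm]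
  refine ⟨CommRingCat.ofHom
    { toFun := b
      map_one' := by have := hπ 1; rwa [map_one, map_one] at this
      map_zero' := by have := hπ 0; rwa [map_zero, map_zero] at this
      map_add' := fun a a' => by
        obtain ⟨r, r', s, hs, h, h'⟩ := h2 a a'
        refine eq_of_mul_eq g hZ hdom (e := le_rfl) hs ?_
        rw [← Scheme.Hom.app_eq_appLE, add_mul, hb a r s h, hb a' r' s h', ← map_add,
          hb (a + a') (r + r') s (by rw [add_mul, h, h', map_add])]
      map_mul' := fun a a' => by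
        obtain ⟨r, r', s, hs, h, h'⟩ := h2 a a'
        refine eq_of_mul_eq g hZ hdom (e := le_rfl) (mul_ne_zero hs hs) ?_
        rw [← Scheme.Hom.app_eq_appLE, hb (a * a') (r * r') (s * s) (by rw [map_mul, map_mul, mul_mul_mul_comm, h, h']),
          map_mul (g.app U).hom s s, mul_mul_mul_comm, hb a r s h, hb a' r' s h', map_mul] }, ?_⟩
  ext x
  exact hπ x

omit [IsIntegral X] [QuasiCompact (X.fromSpecStalk (genericPoint X))] [QuasiSeparated (X.fromSpecStalk (genericPoint X))] in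
/-- Morphisms into an affine open are determined on sections. -/
theorem ext_affine_open {N : Scheme.{u}} {P : N.Opens} (hP : IsAffineOpen P) {W : Z.Opens} (h₁ h₂ : Z ⟶ N)
    (e₁ : W ≤ h₁ ⁻¹ᵁ P) (e₂ : W ≤ h₂ ⁻¹ᵁ P)
    (h : ∀ (P' : N.Opens) (W' : Z.Opens) (hP' : P' = P) (hW' : W' ≤ W),
      h₁.appLE P' W' (hW'.trans (e₁.trans (h₁.preimage_mono hP'.ge))) =
        h₂.appLE P' W' (hW'.trans (e₂.trans (h₂.preimage_mono hP'.ge)))) :
    W.ι ≫ h₁ = W.ι ≫ h₂ := by
  haveI : IsAffine (P : Scheme.{u}) := hP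
  rw [← Scheme.Hom.resLE_comp_ι h₁ e₁, ← Scheme.Hom.resLE_comp_ι h₂ e₂]
  congr 1
  refine ext_of_isAffine ?_
  simp only [Scheme.Hom.appTop, Scheme.Hom.app_eq_appLE, Scheme.Hom.resLE_appLE]
  exact h _ _ (by simp) (by rintro _ ⟨w, -, rfl⟩; exact w.2)

include hZ hdom in
/-- Two maps to the normalization over `X` are equal. -/
theorem hom_ext (h₁ h₂ : Z ⟶ (X.fromSpecStalk (genericPoint X)).normalization)
    (e₁ : h₁ ≫ (X.fromSpecStalk (genericPoint X)).fromNormalization = g)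
    (e₂ : h₂ ≫ (X.fromSpecStalk (genericPoint X)).fromNormalization = g) : h₁ = h₂ := by
  let π := (X.fromSpecStalk (genericPoint X)).fromNormalization
  have hcov : ∀ v : Z, ∃ (U : X.affineOpens), g v ∈ U.1 := fun v => by
    obtain ⟨U, hU, hxU, -⟩ := exists_isAffineOpen_mem_and_subset (U := (⊤ : X.Opens)) (x := g v) trivial
    exact ⟨⟨U, hU⟩, hxU⟩
  choose U hmem using hcov
  refine (Z.openCoverOfIsOpenCover (fun v => g ⁻¹ᵁ (U v).1)
    (top_le_iff.mp fun v _ => Opens.mem_iSup.mpr ⟨v, hmem v⟩)).hom_ext _ _ fun (v : Z) => ?_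
  haveI : Nonempty (U v).1 := ⟨⟨_, hmem v⟩⟩
  have hle : ∀ (h : Z ⟶ _), h ≫ π = g → g ⁻¹ᵁ (U v).1 ≤ h ⁻¹ᵁ (π ⁻¹ᵁ (U v).1) := by
    rintro h rfl z hz; exact hz
  refine ext_affine_open ((U v).2.preimage π) h₁ h₂ (hle h₁ e₁) (hle h₂ e₂) fun P' W' hP' hW' => ?_
  subst hP'
  obtain ⟨-, hfrac⟩ := frac_facts (U v).2
  ext a
  obtain ⟨r, s, hs, hrs⟩ := hfrac a
  have hc : ∀ (h : Z ⟶ _) (e : h ≫ π = g) (x : Γ(X, (U v).1)),
      h.appLE (π ⁻¹ᵁ (U v).1) W' (hW'.trans (hle h e)) (π.app (U v).1 x) = g.appLE (U v).1 W' hW' x := by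
    intro h e x
    exact congrArg (fun m => m.hom x) (show π.app (U v).1 ≫ h.appLE _ W' (hW'.trans (hle h e)) = g.appLE (U v).1 W' hW' by
      rw [Scheme.Hom.app_eq_appLE, Scheme.Hom.appLE_comp_appLE]
      simp only [e])
  refine eq_of_mul_eq g hZ hdom (e := hW') hs ?_
  rw [← hc h₁ e₁ s]
  conv_rhs => rw [hc h₁ e₁ s, ← hc h₂ e₂ s]
  rw [← map_mul, ← map_mul, hrs, hc h₁ e₁ r, hc h₂ e₂ r]

include hZ hdom in
/-- Uniqueness on open subschemes. -/
theorem hom_ext_of_isOpenImmersion {P : Scheme.{u}} (j : P ⟶ Z) [IsOpenImmersion j]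
    (h₁ h₂ : P ⟶ (X.fromSpecStalk (genericPoint X)).normalization)
    (e₁ : h₁ ≫ (X.fromSpecStalk (genericPoint X)).fromNormalization = j ≫ g)
    (e₂ : h₂ ≫ (X.fromSpecStalk (genericPoint X)).fromNormalization = j ≫ g) : h₁ = h₂ := by
  refine hom_ext (j ≫ g) (fun z => ?_) (fun z => ?_) h₁ h₂ e₁ e₂
  · haveI := hZ (j z)
    exact (asIso (j.stalkMap z)).commRingCatIsoToRingEquiv.symm.toMulEquiv.isDomain _
  · obtain ⟨ζ, hζ, hgζ⟩ := hdom (j z)
    obtain ⟨ζ', rfl⟩ := hζ.mem_open j.isOpenEmbedding.isOpen_range ⟨z, rfl⟩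
    exact ⟨ζ', j.isOpenEmbedding.isInducing.specializes_iff.1 hζ, hgζ⟩

include hZ hdom hint in
/-- The universal property of the normalization of an integral scheme. -/
theorem existsUnique_lift :
    ∃! h : Z ⟶ (X.fromSpecStalk (genericPoint X)).normalization,
      h ≫ (X.fromSpecStalk (genericPoint X)).fromNormalization = g := by
  let π := (X.fromSpecStalk (genericPoint X)).fromNormalization
  refine existsUnique_of_exists_of_unique ?_ fun h₁ h₂ e₁ e₂ => hom_ext g hZ hdom h₁ h₂ e₁ e₂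
  have hcov : ∀ v : Z, ∃ (U : X.affineOpens), g v ∈ U.1 := fun v => by
    obtain ⟨U, hU, hxU, -⟩ := exists_isAffineOpen_mem_and_subset (U := (⊤ : X.Opens)) (x := g v) trivial
    exact ⟨⟨U, hU⟩, hxU⟩
  choose U hmem using hcov
  have hloc : ∀ v : Z, ∃ h : (g ⁻¹ᵁ (U v).1).toScheme ⟶ (X.fromSpecStalk (genericPoint X)).normalization,
      h ≫ π = (g ⁻¹ᵁ (U v).1).ι ≫ g := fun v => by
    haveI : Nonempty (U v).1 := ⟨⟨_, hmem v⟩⟩
    obtain ⟨β, hβ⟩ := exists_ringHom g hZ hdom hint (U v).2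
    refine ⟨(g ⁻¹ᵁ (U v).1).toSpecΓ ≫ Spec.map β ≫ ((U v).2.preimage π).fromSpec, ?_⟩
    have h1 : ((U v).2.preimage π).fromSpec ≫ π = Spec.map (π.app (U v).1) ≫ (U v).2.fromSpec := by
      rw [Scheme.Hom.app_eq_appLE]
      exact ((U v).2.SpecMap_appLE_fromSpec π ((U v).2.preimage π) le_rfl).symm
    rw [Category.assoc, Category.assoc, h1, ← Spec.map_comp_assoc, hβ]
    simp
  choose h hh using hloc
  let 𝒰 := Z.openCoverOfIsOpenCover (fun v => g ⁻¹ᵁ (U v).1)
    (top_le_iff.mp fun v _ => Opens.mem_iSup.mpr ⟨v, hmem v⟩)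
  refine ⟨𝒰.glueMorphisms h fun i j => ?_, 𝒰.hom_ext _ _ fun i => ?_⟩
  · refine hom_ext_of_isOpenImmersion g hZ hdom (Limits.pullback.fst (𝒰.f i) (𝒰.f j) ≫ 𝒰.f i) _ _ ?_ ?_
    · simp only [Category.assoc]
      exact congrArg (_ ≫ ·) (hh i)
    · rw [Limits.pullback.condition]
      simp only [Category.assoc]
      exact congrArg (_ ≫ ·) (hh j)
  · rw [Scheme.Cover.ι_glueMorphisms_assoc]
    exact hh i

end Groth.Agent.NormUniv
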